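import Groth.Agent.AlgSp2.QuotPreEqv
import Groth.Agent.AlgSpBasic.QuotRestrict
import Groth.Prelude.Def_Grpd

/-!
# Restriction of groupoid quotient sheaves along maps with open saturation
-/

set_option autoImplicit false
set_option backward.isDefEq.respectTransparency.types false
universe u

open CategoryTheory CategoryTheory.Limits AlgebraicGeometry Opposite AlgSp Groth.AlgSpBasic

namespace Groth.QuotRestrictGpd

noncomputable section

variable {S : Scheme.{u}}

/-- The target map over the base. -/
abbrev tO (G : Grpd.GroupoidScheme S) : Over.mk G.pR ⟶ Over.mk G.pU := Over.homMk G.t G.t_over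

/-- The source map over the base. -/
abbrev sO (G : Grpd.GroupoidScheme S) : Over.mk G.pR ⟶ Over.mk G.pU := Over.homMk G.s G.s_over

/-- The relation of a groupoid scheme is a pre-equivalence relation on points. -/
theorem equivalence_rel (G : Grpd.GroupoidScheme S) (T : Over S) :
    _root_.Equivalence (fun a b : T ⟶ Over.mk G.pU => ∃ r : T ⟶ Over.mk G.pR,
      r ≫ tO G = a ∧ r ≫ sO G = b) := by
  have he : G.e ≫ G.pR = G.pU := by
    calc G.e ≫ G.pR = (G.e ≫ G.s) ≫ G.pU := by rw [Category.assoc, G.s_over]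
      _ = G.pU := by rw [G.e_s, Category.id_comp]
  have hi : G.i ≫ G.pR = G.pR := by
    calc G.i ≫ G.pR = (G.i ≫ G.s) ≫ G.pU := by rw [Category.assoc, G.s_over]
      _ = G.pR := by rw [G.i_s, G.t_over]
  refine ⟨fun a => ⟨Over.homMk (a.left ≫ G.e) ?_, ?_, ?_⟩, ?_, ?_⟩
  · show (a.left ≫ G.e) ≫ G.pR = T.hom
    rw [Category.assoc, he]
    exact Over.w a
  · ext1
    show (a.left ≫ G.e) ≫ G.t = a.left
    rw [Category.assoc, G.e_t]; exact Category.comp_id _
  · ext1
    show (a.left ≫ G.e) ≫ G.s = a.left
    rw [Category.assoc, G.e_s]; exact Category.comp_id _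
  · rintro a b ⟨r, hr₁, hr₂⟩
    refine ⟨Over.homMk (r.left ≫ G.i) ?_, ?_, ?_⟩
    · show (r.left ≫ G.i) ≫ G.pR = T.hom
      rw [Category.assoc, hi]
      exact Over.w r
    · ext1
      show (r.left ≫ G.i) ≫ G.t = b.left
      rw [Category.assoc, G.i_t]
      exact congrArg CommaMorphism.left hr₂
    · ext1
      show (r.left ≫ G.i) ≫ G.s = a.left
      rw [Category.assoc, G.i_s]
      exact congrArg CommaMorphism.left hr₁
  · rintro a b c ⟨r, hr₁, hr₂⟩ ⟨r', hr₁', hr₂'⟩
    have h : r.left ≫ G.s = r'.left ≫ G.t :=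
      (congrArg CommaMorphism.left hr₂).trans (congrArg CommaMorphism.left hr₁').symm
    refine ⟨Over.homMk (pullback.lift r.left r'.left h ≫ G.c) ?_, ?_, ?_⟩
    · show (pullback.lift r.left r'.left h ≫ G.c) ≫ G.pR = T.hom
      calc (pullback.lift r.left r'.left h ≫ G.c) ≫ G.pR
          = ((pullback.lift r.left r'.left h ≫ G.c) ≫ G.s) ≫ G.pU :=
            (congrArg (_ ≫ ·) G.s_over.symm).trans (Category.assoc _ _ _).symm
        _ = (r'.left ≫ G.s) ≫ G.pU := congrArg (· ≫ G.pU) (G.comp_s _ _ h)
        _ = r'.left ≫ G.pR := (Category.assoc _ _ _).trans (congrArg (_ ≫ ·) G.s_over)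
        _ = T.hom := Over.w r'
    · ext1
      show (pullback.lift r.left r'.left h ≫ G.c) ≫ G.t = a.left
      exact (G.comp_t _ _ h).trans (congrArg CommaMorphism.left hr₁)
    · ext1
      show (pullback.lift r.left r'.left h ≫ G.c) ≫ G.s = c.left
      exact (G.comp_s _ _ h).trans (congrArg CommaMorphism.left hr₂')

theorem isPreEqvRelSp_yon {R U : Over S} (s t : R ⟶ U)
    (h : ∀ T : Over S, _root_.Equivalence (fun a b : T ⟶ U => ∃ r : T ⟶ R, r ≫ t = a ∧ r ≫ s = b)) :
    IsPreEqvRelSp ((yon S).map s) ((yon S).map t) := by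
  intro T
  have e : ∀ a b : (yon S).obj T ⟶ (yon S).obj U,
      (∃ r : (yon S).obj T ⟶ (yon S).obj R, r ≫ (yon S).map t = a ∧ r ≫ (yon S).map s = b) ↔
        ∃ r : T ⟶ R, r ≫ t = (yon S).preimage a ∧ r ≫ s = (yon S).preimage b := by
    intro a b
    constructor
    · rintro ⟨r, rfl, rfl⟩
      exact ⟨(yon S).preimage r, (yon S).map_injective (by simp), (yon S).map_injective (by simp)⟩
    · rintro ⟨r, h₁, h₂⟩
      exact ⟨(yon S).map r, by rw [← Functor.map_comp, h₁, Functor.map_preimage],
        by rw [← Functor.map_comp, h₂, Functor.map_preimage]⟩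
  have H := (h T).comap (fun a : (yon S).obj T ⟶ (yon S).obj U => (yon S).preimage a)
  exact ⟨fun a => (e a a).2 (H.refl a), fun hab => (e _ _).2 (H.symm ((e _ _).1 hab)),
    fun h₁ h₂ => (e _ _).2 (H.trans ((e _ _).1 h₁) ((e _ _).1 h₂))⟩

variable {R U R' U' : Over S} {s t : R ⟶ U}

/-- Sections with the same image in the quotient are locally related. -/
theorem exists_cover (hR : IsPreEqvRelSp ((yon S).map s) ((yon S).map t)) {Z : Sp S}
    (a b : Z ⟶ (yon S).obj U) (e : a ≫ yonQuotπ s t = b ≫ yonQuotπ s t) :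
    ∃ (Z' : Sp S) (p : Z' ⟶ Z) (r : Z' ⟶ (yon S).obj R), Epi p ∧
      r ≫ (yon S).map t = p ≫ a ∧ r ≫ (yon S).map s = p ≫ b := by
  obtain ⟨d, hd⟩ := Cofork.IsColimit.desc' (isColimitYonQuot s t)
    (quotSpπ ((yon S).map s) ((yon S).map t)) (quotSp_condition _ _).symm
  have hd' : yonQuotπ s t ≫ d = quotSpπ ((yon S).map s) ((yon S).map t) := hd
  refine Groth.AlgSp2.QuotPreEqv.exists_cover_of_eq hR a b ?_
  rw [← hd', ← Category.assoc, e, Category.assoc]

/-- The induced map of quotients is an open immersion when the saturation is open and covered by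
`U' ×_U R` as sheaves. -/
theorem repWith_isOpenImmersion (hR : IsPreEqvRelSp ((yon S).map s) ((yon S).map t)) {g : U' ⟶ U}
    {s' t' : R' ⟶ U'} {r : R' ⟶ R}
    (hsq : IsPullback (prod.lift t' s') r (prod.map g g) (prod.lift t s))
    {RW WO : Over S} {k₁ : RW ⟶ U'} {k₂ : RW ⟶ R} (hRW : IsPullback k₁ k₂ g t)
    (k : RW ⟶ WO) (j : WO ⟶ U) [IsOpenImmersion j.left] (hk : k ≫ j = k₂ ≫ s)
    [Sheaf.IsLocallySurjective ((yon S).map k)]
    (φ : QuotSh.quot Scheme.fppfPrecoverage s' t' ⟶ QuotSh.quot Scheme.fppfPrecoverage s t)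
    (comm : yonQuotπ s' t' ≫ φ = (yon S).map g ≫ yonQuotπ s t) :
    AlgSp.RepWith @IsOpenImmersion φ := by
  have hπ : Sheaf.IsLocallySurjective (yonQuotπ s t) := isLocallySurjective_yonQuotπ s t
  have hπ' : Sheaf.IsLocallySurjective (yonQuotπ s' t') := isLocallySurjective_yonQuotπ s' t'
  have hwR' := yonQuot_w s' t'
  have hwR := yonQuot_w s t
  have hcover := fun {Z : Sp S} (a b : Z ⟶ (yon S).obj U) => exists_cover (s := s) (t := t) hR a b
  generalize yonQuotπ s t = π at comm hπ hwR hcover
  generalize yonQuotπ s' t' = π' at comm hπ' hwR'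
  have ht : r ≫ t = t' ≫ g := by
    have := hsq.w =≫ prod.fst
    rw [Category.assoc, Category.assoc, prod.map_fst, prod.lift_fst, prod.lift_fst_assoc] at this
    exact this.symm
  have hs : r ≫ s = s' ≫ g := by
    have := hsq.w =≫ prod.snd
    rw [Category.assoc, Category.assoc, prod.map_snd, prod.lift_snd, prod.lift_snd_assoc] at this
    exact this.symm
  -- related points of `U'` are related in the restriction
  have hlift : ∀ {Z : Sp S} (a b : Z ⟶ (yon S).obj U') (q : Z ⟶ (yon S).obj R),
      q ≫ (yon S).map t = a ≫ (yon S).map g → q ≫ (yon S).map s = b ≫ (yon S).map g →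
      ∃ q' : Z ⟶ (yon S).obj R', q' ≫ (yon S).map t' = a ∧ q' ≫ (yon S).map s' = b := by
    intro Z a b q h₁ h₂
    have hsq' := hsq.map (yon S)
    let ab : Z ⟶ (yon S).obj (U' ⨯ U') := prod.lift a b ≫ inv (prodComparison (yon S) U' U')
    have ha : ab ≫ (yon S).map prod.fst = a := by
      simp only [ab, Category.assoc]
      rw [← prodComparison_fst, IsIso.inv_hom_id_assoc, prod.lift_fst]
    have hb : ab ≫ (yon S).map prod.snd = b := by
      simp only [ab, Category.assoc]
      rw [← prodComparison_snd, IsIso.inv_hom_id_assoc, prod.lift_snd]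
    have hw : ab ≫ (yon S).map (prod.map g g) = q ≫ (yon S).map (prod.lift t s) := by
      apply yon_prod_hom_ext
      · simp only [Category.assoc, ← Functor.map_comp, prod.map_fst, prod.lift_fst]
        rw [Functor.map_comp, ← Category.assoc, ha, h₁]
      · simp only [Category.assoc, ← Functor.map_comp, prod.map_snd, prod.lift_snd]
        rw [Functor.map_comp, ← Category.assoc, hb, h₂]
    refine ⟨hsq'.lift ab q hw, ?_, ?_⟩
    · have e₁ : (yon S).map t' = (yon S).map (prod.lift t' s') ≫ (yon S).map prod.fst := by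
        rw [← Functor.map_comp, prod.lift_fst]
      refine (congrArg (_ ≫ ·) e₁).trans ?_
      rw [← Category.assoc, hsq'.lift_fst, ha]
    · have e₂ : (yon S).map s' = (yon S).map (prod.lift t' s') ≫ (yon S).map prod.snd := by
        rw [← Functor.map_comp, prod.lift_snd]
      refine (congrArg (_ ≫ ·) e₂).trans ?_
      rw [← Category.assoc, hsq'.lift_fst, hb]
  have : Mono φ := by
    constructor
    intro Z x y e
    have := (Sheaf.isLocallySurjective_iff_epi _).1
      (isLocallySurjective_of_isPullback (IsPullback.of_hasPullback π' x))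
    let px := pullback.snd π' x
    have := (Sheaf.isLocallySurjective_iff_epi _).1
      (isLocallySurjective_of_isPullback (IsPullback.of_hasPullback π' (px ≫ y)))
    let py := pullback.snd π' (px ≫ y)
    let a := py ≫ pullback.fst π' x
    let b := pullback.fst π' (px ≫ y)
    have hae : a ≫ π' = py ≫ px ≫ x := by simp only [a, px, Category.assoc, pullback.condition]
    have hbe : b ≫ π' = py ≫ px ≫ y := pullback.condition
    clear_value a b
    have he : (a ≫ (yon S).map g) ≫ π = (b ≫ (yon S).map g) ≫ π := by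
      calc (a ≫ (yon S).map g) ≫ π = (a ≫ π') ≫ φ := by rw [Category.assoc, Category.assoc, comm]
        _ = (b ≫ π') ≫ φ := by rw [hae, hbe]; simp only [Category.assoc, e]
        _ = (b ≫ (yon S).map g) ≫ π := by rw [Category.assoc, Category.assoc, comm]
    obtain ⟨Z', p, q, hp, h₁, h₂⟩ := hcover _ _ he
    rw [← Category.assoc] at h₁ h₂
    obtain ⟨q', h₁', h₂'⟩ := hlift _ _ q h₁ h₂
    have key : p ≫ a ≫ π' = p ≫ b ≫ π' := by
      rw [← Category.assoc, ← h₁', ← Category.assoc p b, ← h₂', Category.assoc, Category.assoc]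
      exact congrArg (q' ≫ ·) hwR'
    rw [hae, hbe] at key
    rwa [cancel_epi, cancel_epi, cancel_epi] at key
  have : Mono j := (Over.forget S).mono_of_mono_map (inferInstanceAs (Mono j.left))
  -- the chart of the pullback
  have hw : ((yon S).map k₁ ≫ π') ≫ φ = (yon S).map (k₂ ≫ s) ≫ π := by
    rw [Category.assoc, comm, ← Category.assoc, ← Functor.map_comp, hRW.w, Functor.map_comp,
      Functor.map_comp, Category.assoc, Category.assoc, hwR]
  let c := pullback.lift ((yon S).map k₁ ≫ π') ((yon S).map (k₂ ≫ s)) hw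
  have : Epi c := by
    let fst' := pullback.fst φ π
    have := (Sheaf.isLocallySurjective_iff_epi _).1
      (isLocallySurjective_of_isPullback (IsPullback.of_hasPullback π' fst'))
    let a := pullback.fst π' fst'
    let u := pullback.snd π' fst'
    have he : (a ≫ (yon S).map g) ≫ π = (u ≫ pullback.snd φ π) ≫ π := by
      rw [Category.assoc, ← comm, ← Category.assoc, pullback.condition, Category.assoc,
        pullback.condition, ← Category.assoc]
    obtain ⟨Z', p, q, hp, h₁, h₂⟩ := hcover _ _ he
    rw [← Category.assoc] at h₁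
    let l := (hRW.map (yon S)).lift (p ≫ a) q h₁.symm
    have hlc : l ≫ c = p ≫ u := by
      apply pullback.hom_ext
      · rw [Category.assoc, pullback.lift_fst, ← Category.assoc, IsPullback.lift_fst, Category.assoc,
          Category.assoc, ← pullback.condition]
      · rw [Category.assoc, pullback.lift_snd, Functor.map_comp, ← Category.assoc,
          IsPullback.lift_snd, h₂, Category.assoc]
    have : Epi (l ≫ c) := by rw [hlc]; infer_instance
    exact epi_of_epi l c
  have : Sheaf.IsLocallySurjective c := (Sheaf.isLocallySurjective_iff_epi _).2 ‹_›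
  obtain ⟨i, hi⟩ := exists_iso_of_factorizations (c := (yon S).map k) (m := (yon S).map j)
    (e := c) (n := pullback.snd φ π)
    (by rw [pullback.lift_snd, ← Functor.map_comp, hk])
  have sqW : IsPullback (i.hom ≫ pullback.fst φ π) ((yon S).map j) φ π :=
    (IsPullback.of_hasPullback φ π).of_iso i.symm (Iso.refl _) (Iso.refl _) (Iso.refl _)
      (by simp) (by simp [← hi]) (by simp) (by simp)
  exact repWith_of_sepLQF (Q := @IsOpenImmersion) π sqW inferInstance

end

end Groth.QuotRestrictGpd
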